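import Cfsg.Agent.Lib.ThompsonJ.Replacement
import Cfsg.Agent.Lib.TwoGroups.RankOne
import Mathlib.GroupTheory.Sylow

/-!
Finite groups in which `p`-subgroups of equal order are conjugate: structure of a `p`-subgroup.
-/

set_option autoImplicit false

namespace CfsgLib.PConjugate

variable {G : Type*} [Group G]

/-- Any two `p`-subgroups of the same order are conjugate. -/
def ConjEq (p : ℕ) (G : Type*) [Group G] : Prop :=
  ∀ H K : Subgroup G, IsPGroup p H → IsPGroup p K → Nat.card H = Nat.card K →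
    ∃ g : G, K = H.map (MulAut.conj g).toMonoidHom

variable {p : ℕ}

theorem ConjEq.iso (h : ConjEq p G) {H K : Subgroup G} (hH : IsPGroup p H) (hK : IsPGroup p K)
    (hc : Nat.card H = Nat.card K) : Nonempty (H ≃* K) := by
  obtain ⟨g, hg⟩ := h H K hH hK hc
  exact ⟨(H.equivMapOfInjective _ (MulAut.conj g).injective).trans (MulEquiv.subgroupCongr hg.symm)⟩

theorem ConjEq.transfer_pow (h : ConjEq p G) {H K : Subgroup G} (hH : IsPGroup p H)
    (hK : IsPGroup p K) (hc : Nat.card H = Nat.card K) {n : ℕ} (hn : ∀ x ∈ H, x ^ n = 1) :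
    ∀ x ∈ K, x ^ n = 1 := by
  obtain ⟨e⟩ := h.iso hH hK hc
  intro x hx
  have h1 : e.symm ⟨x, hx⟩ ^ n = 1 := Subtype.ext (by
    rw [Subgroup.coe_pow]; exact hn _ (e.symm ⟨x, hx⟩).2)
  have h2 := congrArg e h1
  rw [map_pow, e.apply_symm_apply, map_one] at h2
  simpa using congrArg Subtype.val h2

theorem ConjEq.transfer_comm (h : ConjEq p G) {H K : Subgroup G} (hH : IsPGroup p H)
    (hK : IsPGroup p K) (hc : Nat.card H = Nat.card K) (hn : ∀ x ∈ H, ∀ y ∈ H, Commute x y) :
    ∀ x ∈ K, ∀ y ∈ K, Commute x y := by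
  obtain ⟨e⟩ := h.iso hH hK hc
  intro x hx y hy
  have h1 : Commute (e.symm ⟨x, hx⟩) (e.symm ⟨y, hy⟩) := Subtype.ext
    (hn _ (e.symm ⟨x, hx⟩).2 _ (e.symm ⟨y, hy⟩).2)
  have h2 := h1.map e
  rw [e.apply_symm_apply, e.apply_symm_apply] at h2
  exact congrArg Subtype.val h2

theorem card_sup_zpowers [Finite G] [hp : Fact p.Prime] {K : Subgroup G} {w : G}
    (hw : orderOf w = p) (hwK : w ∉ K) (hn : ∀ k ∈ K, w * k * w⁻¹ ∈ K) :
    Nat.card ↥(K ⊔ Subgroup.zpowers w) = Nat.card K * p := by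
  have hle : Subgroup.zpowers w ≤ Subgroup.normalizer (K : Set G) := by
    rw [Subgroup.zpowers_le, Subgroup.mem_normalizer_iff_map_conj_eq]
    refine Subgroup.eq_of_le_of_card_ge ?_ (le_of_eq ?_)
    · rintro _ ⟨k, hk, rfl⟩
      exact hn k hk
    · exact Nat.card_congr (K.equivMapOfInjective _ (MulAut.conj w).injective).toEquiv
  have hinf : Subgroup.zpowers w ⊓ K = ⊥ := by
    have hd : Nat.card ↥(Subgroup.zpowers w ⊓ K) ∣ p := by
      have h := Subgroup.card_dvd_of_le (inf_le_left : Subgroup.zpowers w ⊓ K ≤ _)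
      rwa [Nat.card_zpowers, hw] at h
    rcases (Nat.dvd_prime hp.out).1 hd with h | h
    · exact Subgroup.eq_bot_of_card_eq _ h
    · have := Subgroup.eq_of_le_of_card_ge (inf_le_left : Subgroup.zpowers w ⊓ K ≤ _)
        (by rw [h, Nat.card_zpowers, hw])
      exact absurd (this.ge (Subgroup.mem_zpowers w)).2 hwK
  have h := ThompsonJ.card_sup_mul_card_inf (Subgroup.zpowers w) K hle
  rwa [hinf, Subgroup.card_bot, mul_one, Nat.card_zpowers, hw, sup_comm, mul_comm p] at h

theorem isPGroup_of_card [Finite G] [Fact p.Prime] {H : Subgroup G} {n : ℕ}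
    (h : Nat.card H = p ^ n) : IsPGroup p H := IsPGroup.of_card h

theorem commute_of_closure {S : Set G} (hS : ∀ a ∈ S, ∀ b ∈ S, Commute a b) :
    ∀ x ∈ Subgroup.closure S, ∀ y ∈ Subgroup.closure S, Commute x y := by
  have h1 : ∀ a ∈ S, ∀ x ∈ Subgroup.closure S, Commute a x := fun a ha x hx => by
    have hle : Subgroup.closure S ≤ Subgroup.centralizer ({a} : Set G) :=
      (Subgroup.closure_le _).2 fun b hb =>
        Subgroup.mem_centralizer_singleton_iff.2 (hS b hb a ha).eq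
    exact (Subgroup.mem_centralizer_singleton_iff.1 (hle hx)).symm
  intro x hx y hy
  have hle : Subgroup.closure S ≤ Subgroup.centralizer ({y} : Set G) :=
    (Subgroup.closure_le _).2 fun a ha =>
      Subgroup.mem_centralizer_singleton_iff.2 (h1 a ha y hy).eq
  exact Subgroup.mem_centralizer_singleton_iff.1 (hle hx)

/-- Two subgroups of order `p` in a `p`-subgroup force exponent `p`. -/
theorem pow_eq_one [Finite G] [hp : Fact p.Prime] (h : ConjEq p G) {P : Subgroup G}
    (hP : IsPGroup p P) (hu : ¬ TwoGroups.UniqueOrderP p P) : ∀ x ∈ P, x ^ p = 1 := by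
  unfold TwoGroups.UniqueOrderP at hu
  push Not at hu
  obtain ⟨a, b, ha, hb, hab⟩ := hu
  haveI : Nontrivial P := nontrivial_of_ne a 1 fun e => by
    rw [e, orderOf_one] at ha
    exact hp.out.ne_one ha.symm
  haveI := hP.center_nontrivial
  have hd : p ∣ Nat.card (Subgroup.center P) := by
    obtain ⟨k, hk⟩ := IsPGroup.iff_card.1 (hP.to_subgroup (Subgroup.center P))
    rcases k with _ | k
    · rw [pow_zero] at hk
      have := Finite.one_lt_card (α := Subgroup.center P)
      omega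
    · exact hk ▸ dvd_pow_self p k.succ_ne_zero
  obtain ⟨c, hc⟩ := exists_prime_orderOf_dvd_card' (G := Subgroup.center P) p hd
  have hc' : orderOf ((c : P) : G) = p := by rwa [Subgroup.orderOf_coe, Subgroup.orderOf_coe]
  obtain ⟨e, he, hne⟩ : ∃ e : P, orderOf (e : G) = p ∧ (e : G) ∉ Subgroup.zpowers ((c : P) : G) := by
    by_contra hcon
    push Not at hcon
    refine hab ?_
    have ha' := hcon a (by rwa [Subgroup.orderOf_coe])
    have hb' := hcon b (by rwa [Subgroup.orderOf_coe])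
    have hze : Subgroup.zpowers (a : G) = Subgroup.zpowers ((c : P) : G) :=
      Subgroup.eq_of_le_of_card_ge (Subgroup.zpowers_le.2 ha')
        (by rw [Nat.card_zpowers, Nat.card_zpowers, hc', Subgroup.orderOf_coe, ha])
    rw [← hze, Subgroup.mem_zpowers_iff] at hb'
    obtain ⟨i, hi⟩ := hb'
    exact Subgroup.mem_zpowers_iff.2 ⟨i, Subtype.ext (by rw [Subgroup.coe_zpow]; exact hi)⟩
  have hce : Commute ((c : P) : G) (e : G) :=
    congrArg Subtype.val (Subgroup.mem_center_iff.1 c.2 e).symm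
  set E := Subgroup.zpowers ((c : P) : G) ⊔ Subgroup.zpowers (e : G) with hE
  have hEc : Nat.card E = p ^ 2 := by
    rw [hE, card_sup_zpowers he hne, Nat.card_zpowers, hc', pow_two]
    rintro k hk
    obtain ⟨i, rfl⟩ := Subgroup.mem_zpowers_iff.1 hk
    rw [(hce.symm.zpow_right i).eq, mul_inv_cancel_right]
    exact hk
  have hEexp : ∀ x ∈ E, x ^ p = 1 := by
    intro x hx
    have hcomm := commute_of_closure (S := {((c : P) : G), (e : G)}) (by
      rintro s (rfl | rfl) t (rfl | rfl)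
      exacts [Commute.refl _, hce, hce.symm, Commute.refl _])
    have heq : E = Subgroup.closure {((c : P) : G), (e : G)} := by
      rw [hE, Subgroup.zpowers_eq_closure, Subgroup.zpowers_eq_closure, ← Subgroup.closure_union,
        Set.singleton_union]
    rw [heq] at hx
    induction hx using Subgroup.closure_induction with
    | mem y hy =>
      rcases hy with rfl | rfl
      · rw [← hc']; exact pow_orderOf_eq_one _
      · rw [← he]; exact pow_orderOf_eq_one _
    | one => exact one_pow _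
    | mul y z hy hz hy' hz' => rw [(hcomm y hy z hz).mul_pow, hy', hz', one_mul]
    | inv y _ hy' => rw [inv_pow, hy', inv_one]
  intro x hx
  by_contra hxp
  obtain ⟨k, hk⟩ := IsPGroup.iff_orderOf.1 hP ⟨x, hx⟩
  rw [Subgroup.orderOf_mk] at hk
  have hk2 : 2 ≤ k := by
    by_contra hk'
    refine hxp (orderOf_dvd_iff_pow_eq_one.1 (hk ▸ ?_))
    calc p ^ k ∣ p ^ 1 := pow_dvd_pow p (by omega)
      _ = p := pow_one p
  obtain ⟨j, rfl⟩ := Nat.exists_eq_add_of_le hk2
  have hy : orderOf (x ^ p ^ j) = p ^ 2 := by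
    rw [orderOf_pow, hk, Nat.gcd_eq_right (pow_dvd_pow p (by omega)),
      Nat.pow_div (by omega) hp.out.pos]
    congr 1
    omega
  have hz := h.transfer_pow (isPGroup_of_card hEc)
    (isPGroup_of_card (H := Subgroup.zpowers (x ^ p ^ j)) (n := 2) (by rw [Nat.card_zpowers, hy]))
    (by rw [hEc, Nat.card_zpowers, hy]) hEexp _ (Subgroup.mem_zpowers _)
  have := Nat.le_of_dvd hp.out.pos (hy ▸ orderOf_dvd_of_pow_eq_one hz)
  have := hp.out.one_lt
  nlinarith

theorem exists_noncentral_second_center {P : Subgroup G} [Finite G] [hp : Fact p.Prime]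
    (hP : IsPGroup p P) (hnc : ¬ ∀ a ∈ P, ∀ b ∈ P, Commute a b) :
    ∃ x ∈ P, (∀ y ∈ P, ∀ w ∈ P, Commute (x * y * x⁻¹ * y⁻¹) w) ∧ ∃ u ∈ P, ¬ Commute x u := by
  have hne : Subgroup.center P ≠ ⊤ := fun htop => hnc fun a ha b hb =>
    show a * b = b * a from congrArg Subtype.val (Subgroup.mem_center_iff.1
      (htop ▸ Subgroup.mem_top (⟨b, hb⟩ : P)) ⟨a, ha⟩)
  haveI : Nontrivial (P ⧸ Subgroup.center P) := QuotientGroup.nontrivial_iff.2 hne
  haveI := (hP.to_quotient (Subgroup.center P)).center_nontrivial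
  obtain ⟨⟨q, hq⟩, hq1⟩ := exists_ne (1 : Subgroup.center (P ⧸ Subgroup.center P))
  obtain ⟨x, rfl⟩ := QuotientGroup.mk_surjective q
  have hxc : x ∉ Subgroup.center P := fun hx =>
    hq1 (Subtype.ext ((QuotientGroup.eq_one_iff x).2 hx))
  rw [Subgroup.mem_center_iff] at hxc
  push Not at hxc
  obtain ⟨u, hu⟩ := hxc
  refine ⟨x, x.2, fun y hy w hw => ?_, u, u.2, fun e => hu (Subtype.ext e.eq.symm)⟩
  have hmem : x * ⟨y, hy⟩ * x⁻¹ * (⟨y, hy⟩ : P)⁻¹ ∈ Subgroup.center P := by
    rw [← QuotientGroup.eq_one_iff, QuotientGroup.mk_mul, QuotientGroup.mk_mul,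
      QuotientGroup.mk_mul, QuotientGroup.mk_inv, QuotientGroup.mk_inv,
      ← Subgroup.mem_center_iff.1 hq (QuotientGroup.mk (⟨y, hy⟩ : P))]
    group
  exact (congrArg Subtype.val (Subgroup.mem_center_iff.1 hmem ⟨w, hw⟩)).symm

/-- A noncommutative exponent `p` group gives two transvections of an elementary subgroup. -/
theorem exists_transvections [Finite G] [hp : Fact p.Prime] (h : ConjEq p G) {P : Subgroup G}
    (hP : IsPGroup p P) (hexp : ∀ x ∈ P, x ^ p = 1) (hnc : ¬ ∀ a ∈ P, ∀ b ∈ P, Commute a b) :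
    ∃ x z u v : G, x ∈ P ∧ z ∈ P ∧ u ∈ P ∧ (∀ w ∈ P, Commute z w) ∧ z ≠ 1 ∧ x ≠ 1 ∧
      v ^ p = 1 ∧ Commute u z ∧ u * x * u⁻¹ = z * x ∧ Commute v x ∧ v * z * v⁻¹ = x⁻¹ * z := by
  obtain ⟨x, hx, hcent, u, hu, hxu⟩ := exists_noncentral_second_center hP hnc
  set z := u * x * u⁻¹ * x⁻¹ with hzdef
  have hzinv : z = (x * u * x⁻¹ * u⁻¹)⁻¹ := by rw [hzdef]; group
  have hzc : ∀ w ∈ P, Commute z w := fun w hw => hzinv ▸ (hcent u hu w hw).inv_left
  have hzP : z ∈ P := mul_mem (mul_mem (mul_mem hu hx) (inv_mem hu)) (inv_mem hx)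
  have hz1 : z ≠ 1 := fun e => hxu (show x * u = u * x by
    rw [hzdef, mul_inv_eq_one, mul_inv_eq_iff_eq_mul] at e
    exact e.symm)
  have hx1 : x ≠ 1 := fun e => hxu (e ▸ Commute.one_left u)
  have hu1 : u ≠ 1 := fun e => hxu (e ▸ Commute.one_right x)
  have ho : ∀ a ∈ P, a ≠ 1 → orderOf a = p := fun a ha ha1 => orderOf_eq_prime (hexp a ha) ha1
  set E := Subgroup.zpowers z ⊔ Subgroup.zpowers x with hEdef
  have hzx : Commute z x := hzc x hx
  have hEc : Nat.card E = p ^ 2 := by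
    rw [hEdef, card_sup_zpowers (ho x hx hx1) ?_ ?_, Nat.card_zpowers, ho z hzP hz1, pow_two]
    · intro hm
      obtain ⟨i, hi⟩ := Subgroup.mem_zpowers_iff.1 hm
      exact hxu (hi ▸ (hzc u hu).zpow_left i)
    · intro k hk
      obtain ⟨i, rfl⟩ := Subgroup.mem_zpowers_iff.1 hk
      rw [(hzx.symm.zpow_right i).eq, mul_inv_cancel_right]
      exact hk
  have hEP : E ≤ P := sup_le (Subgroup.zpowers_le.2 hzP) (Subgroup.zpowers_le.2 hx)
  have hEcl : E = Subgroup.closure {z, x} := by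
    rw [hEdef, Subgroup.zpowers_eq_closure, Subgroup.zpowers_eq_closure, ← Subgroup.closure_union,
      Set.singleton_union]
  have hEcomm : ∀ a ∈ E, ∀ b ∈ E, Commute a b := fun a ha b hb =>
    commute_of_closure (S := {z, x}) (by
      rintro s (rfl | rfl) t (rfl | rfl)
      exacts [Commute.refl _, hzx, hzx.symm, Commute.refl _]) a (hEcl ▸ ha) b (hEcl ▸ hb)
  have huxu : u * x * u⁻¹ = z * x := by rw [hzdef]; group
  have huz : Commute u z := (hzc u hu).symm
  have huE : u ∉ E := fun hm => hxu (hEcomm x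
    (Subgroup.mem_sup_right (Subgroup.mem_zpowers x)) u hm)
  have hun : ∀ k ∈ E, u * k * u⁻¹ ∈ E := by
    intro k hk
    rw [hEcl] at hk
    induction hk using Subgroup.closure_induction with
    | mem y hy =>
      rcases hy with rfl | rfl
      · rw [huz.eq, mul_inv_cancel_right]; exact Subgroup.mem_sup_left (Subgroup.mem_zpowers _)
      · rw [huxu]
        exact mul_mem (Subgroup.mem_sup_left (Subgroup.mem_zpowers _))
          (Subgroup.mem_sup_right (Subgroup.mem_zpowers _))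
    | one => rw [mul_one, mul_inv_cancel]; exact one_mem _
    | mul a b _ _ ha hb =>
      rw [show u * (a * b) * u⁻¹ = u * a * u⁻¹ * (u * b * u⁻¹) by group]
      exact mul_mem ha hb
    | inv a _ ha => rw [show u * a⁻¹ * u⁻¹ = (u * a * u⁻¹)⁻¹ by group]; exact inv_mem ha
  set T := E ⊔ Subgroup.zpowers u with hTdef
  have hTc : Nat.card T = p ^ 3 := by
    rw [hTdef, card_sup_zpowers (ho u hu hu1) huE hun, hEc, ← pow_succ]
  have hTnc : ¬ ∀ a ∈ T, ∀ b ∈ T, Commute a b := fun hc => hxu (hc x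
    (Subgroup.mem_sup_left (Subgroup.mem_sup_right (Subgroup.mem_zpowers x))) u
    (Subgroup.mem_sup_right (Subgroup.mem_zpowers u)))
  -- every element of `P` commuting with `x` lies in `E`
  have hCx : ∀ w ∈ P, Commute x w → w ∈ E := by
    intro w hw hxw
    by_contra hwE
    have hw1 : w ≠ 1 := fun e => hwE (e ▸ one_mem _)
    have hwn : ∀ k ∈ E, w * k * w⁻¹ ∈ E := by
      intro k hk
      rw [hEcl] at hk
      have hkc : Commute k w := commute_of_closure (S := {z, x, w}) (by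
        rintro s (rfl | rfl | rfl) t (rfl | rfl | rfl)
        exacts [Commute.refl _, hzx, hzc _ hw, hzx.symm, Commute.refl _, hxw, (hzc _ hw).symm,
          hxw.symm, Commute.refl _]) k
        (Subgroup.closure_mono (by
          rintro s (rfl | rfl)
          · exact Or.inl rfl
          · exact Or.inr (Or.inl rfl)) hk) w (Subgroup.subset_closure (Or.inr (Or.inr rfl)))
      rw [hkc.symm.eq, mul_inv_cancel_right, hEcl]
      exact hk
    have hAc : Nat.card ↥(E ⊔ Subgroup.zpowers w) = p ^ 3 := by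
      rw [card_sup_zpowers (ho w hw hw1) hwE hwn, hEc, ← pow_succ]
    refine hTnc (h.transfer_comm (isPGroup_of_card hAc) (isPGroup_of_card hTc)
      (hAc.trans hTc.symm) ?_)
    have heq : E ⊔ Subgroup.zpowers w = Subgroup.closure {z, x, w} := by
      rw [hEcl, Subgroup.zpowers_eq_closure, ← Subgroup.closure_union, Set.union_singleton,
        Set.insert_comm, Set.pair_comm w x]
    rw [heq]
    exact commute_of_closure (by
      rintro s (rfl | rfl | rfl) t (rfl | rfl | rfl)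
      exacts [Commute.refl _, hzx, hzc _ hw, hzx.symm, Commute.refl _, hxw, (hzc _ hw).symm,
        hxw.symm, Commute.refl _])
  -- the order of `P`
  have hord : Nat.card P ≤ p ^ 3 := by
    let f : P →* P :=
      { toFun := fun y => ⟨x * (y : G) * x⁻¹ * (y : G)⁻¹,
          mul_mem (mul_mem (mul_mem hx y.2) (inv_mem hx)) (inv_mem y.2)⟩
        map_one' := Subtype.ext (by simp)
        map_mul' := fun y w => Subtype.ext (by
          have hc := hcent w w.2 y y.2
          show x * ((y : G) * w) * x⁻¹ * ((y : G) * w)⁻¹ =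
            x * (y : G) * x⁻¹ * (y : G)⁻¹ * (x * (w : G) * x⁻¹ * (w : G)⁻¹)
          calc x * ((y : G) * w) * x⁻¹ * ((y : G) * w)⁻¹
              = x * (y : G) * x⁻¹ * ((x * (w : G) * x⁻¹ * (w : G)⁻¹) * (y : G)⁻¹) := by group
            _ = x * (y : G) * x⁻¹ * ((y : G)⁻¹ * (x * (w : G) * x⁻¹ * (w : G)⁻¹)) := by
                rw [hc.inv_right.eq]
            _ = _ := by group) }
    have hker : Nat.card f.ker ≤ p ^ 2 := by
      rw [← hEc]
      refine Nat.card_le_card_of_injective (fun y => (⟨((y : P) : G), hCx _ (y : P).2 ?_⟩ : E))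
        fun a b hab => ?_
      · have := congrArg Subtype.val (MonoidHom.mem_ker.1 y.2)
        exact mul_inv_eq_iff_eq_mul.1 (mul_inv_eq_one.1 this)
      · exact Subtype.ext (Subtype.ext (congrArg (fun e : E => (e : G)) hab))
    have hZ : Nat.card (Subgroup.center P) ≤ p := by
      have hle : (Subgroup.center P).map P.subtype ≤ E := by
        rintro _ ⟨y, hy, rfl⟩
        exact hCx _ y.2 (congrArg Subtype.val (Subgroup.mem_center_iff.1 hy ⟨x, hx⟩))
      have hcard := Subgroup.card_dvd_of_le hle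
      rw [Subgroup.card_map_of_injective P.subtype_injective, hEc,
        Nat.dvd_prime_pow hp.out] at hcard
      obtain ⟨k, hk, hk'⟩ := hcard
      rcases (show k ≤ 1 ∨ k = 2 by omega) with hk1 | rfl
      · rw [hk']
        calc p ^ k ≤ p ^ 1 := Nat.pow_le_pow_right hp.out.pos hk1
          _ = p := pow_one p
      · exfalso
        have heq := Subgroup.eq_of_le_of_card_ge hle (by
          rw [Subgroup.card_map_of_injective P.subtype_injective, hk', hEc])
        obtain ⟨y, hy, hyx⟩ := heq.ge (Subgroup.mem_sup_right (Subgroup.mem_zpowers x))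
        exact hxu (hyx ▸ (congrArg Subtype.val (Subgroup.mem_center_iff.1 hy ⟨u, hu⟩)).symm)
    have hrange : Nat.card f.range ≤ p := by
      refine le_trans (Subgroup.card_le_of_le ?_) hZ
      rintro _ ⟨y, rfl⟩
      exact Subgroup.mem_center_iff.2 fun w => Subtype.ext (hcent y y.2 w w.2).symm.eq
    calc Nat.card P = f.ker.index * Nat.card f.ker := f.ker.index_mul_card.symm
      _ = Nat.card f.range * Nat.card f.ker := by rw [Subgroup.index_ker]
      _ ≤ p * p ^ 2 := Nat.mul_le_mul hrange hker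
      _ = p ^ 3 := (pow_succ' p 2).symm
  have hTP : T ≤ P := sup_le hEP (Subgroup.zpowers_le.2 hu)
  have hPT : T = P := Subgroup.eq_of_le_of_card_ge hTP (hTc ▸ hord)
  -- `x` is conjugate to a central element
  obtain ⟨g, hg⟩ := h (Subgroup.zpowers x) (Subgroup.zpowers z)
    (isPGroup_of_card (n := 1) (by rw [Nat.card_zpowers, ho x hx hx1, pow_one]))
    (isPGroup_of_card (n := 1) (by rw [Nat.card_zpowers, ho z hzP hz1, pow_one]))
    (by rw [Nat.card_zpowers, Nat.card_zpowers, ho x hx hx1, ho z hzP hz1])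
  have hgz : g * x * g⁻¹ ∈ Subgroup.zpowers z := hg ▸ ⟨x, Subgroup.mem_zpowers x, rfl⟩
  obtain ⟨i, hi⟩ := Subgroup.mem_zpowers_iff.1 hgz
  set C := Subgroup.centralizer ({x} : Set G)
  have hP' : P.map (MulAut.conj g⁻¹).toMonoidHom ≤ C := by
    rintro _ ⟨y, hy, rfl⟩
    rw [Subgroup.mem_centralizer_singleton_iff]
    show g⁻¹ * y * g⁻¹⁻¹ * x = x * (g⁻¹ * y * g⁻¹⁻¹)
    have hcy : Commute (g * x * g⁻¹) y := hi ▸ (hzc y hy).zpow_left i
    calc g⁻¹ * y * g⁻¹⁻¹ * x = g⁻¹ * (y * (g * x * g⁻¹)) * g := by group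
      _ = g⁻¹ * ((g * x * g⁻¹) * y) * g := by rw [hcy.eq]
      _ = _ := by group
  have hdvd : p ^ 3 ∣ Nat.card C := by
    have hd := Subgroup.card_dvd_of_le hP'
    rwa [Subgroup.card_map_of_injective (MulAut.conj g⁻¹).injective, ← hPT, hTc] at hd
  have hEC : E ≤ C := fun a ha => Subgroup.mem_centralizer_singleton_iff.2
    (hEcomm a ha x (Subgroup.mem_sup_right (Subgroup.mem_zpowers x))).eq
  obtain ⟨K, hKc, hEK⟩ := Sylow.exists_subgroup_card_pow_succ (n := 2) hdvd
    (H := E.subgroupOf C) ((Nat.card_congr (Subgroup.subgroupOfEquivOfLe hEC).toEquiv).trans hEc)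
  set Q := K.map C.subtype with hQdef
  have hQc : Nat.card Q = p ^ 3 := by
    rw [hQdef, Subgroup.card_map_of_injective C.subtype_injective, hKc]
  have hEQ : E ≤ Q := fun a ha => ⟨⟨a, hEC ha⟩, hEK (Subgroup.mem_subgroupOf.2 ha), rfl⟩
  have hQexp : ∀ a ∈ Q, a ^ p = 1 := h.transfer_pow (isPGroup_of_card hTc) (isPGroup_of_card hQc)
    (hTc.trans hQc.symm) (fun a ha => hexp a (hPT ▸ ha))
  obtain ⟨v, hv, hvE⟩ : ∃ v ∈ Q, v ∉ E := by
    by_contra hcon
    push Not at hcon
    have := Subgroup.card_le_of_le (show Q ≤ E from hcon)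
    rw [hQc, hEc] at this
    have := Nat.pow_lt_pow_right hp.out.one_lt (show 2 < 3 by omega)
    omega
  have hvx : Commute v x := by
    obtain ⟨⟨y, hy⟩, -, rfl⟩ := hv
    exact Subgroup.mem_centralizer_singleton_iff.1 hy
  have hEn : (E.subgroupOf Q).Normal := by
    refine Subgroup.normal_of_index_eq_minFac_card ?_
    have h1 := Subgroup.card_mul_index (E.subgroupOf Q)
    rw [Nat.card_congr (Subgroup.subgroupOfEquivOfLe hEQ).toEquiv, hEc, hQc] at h1
    have h2 : (E.subgroupOf Q).index = p := by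
      refine Nat.eq_of_mul_eq_mul_left (pow_pos hp.out.pos 2) ?_
      rw [h1, pow_succ]
    rw [h2, hQc, Nat.Prime.pow_minFac hp.out (by norm_num)]
  have hconj : ∀ a ∈ E, v * a * v⁻¹ ∈ E := fun a ha => by
    have := hEn.conj_mem ⟨a, hEQ ha⟩ (Subgroup.mem_subgroupOf.2 ha) ⟨v, hv⟩
    simpa [Subgroup.mem_subgroupOf] using this
  have hQnc : ¬ Commute v z := by
    intro hvz
    refine hTnc (h.transfer_comm (isPGroup_of_card hQc) (isPGroup_of_card hTc)
      (hQc.trans hTc.symm) ?_)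
    have hv1 : v ≠ 1 := fun e => hvE (e ▸ one_mem _)
    have hle : E ⊔ Subgroup.zpowers v ≤ Q := sup_le hEQ (Subgroup.zpowers_le.2 hv)
    have heq := Subgroup.eq_of_le_of_card_ge hle (by
      rw [card_sup_zpowers (orderOf_eq_prime (hQexp v hv) hv1) hvE hconj, hEc, hQc, ← pow_succ])
    rw [← heq, hEcl, Subgroup.zpowers_eq_closure, ← Subgroup.closure_union, Set.union_singleton]
    exact commute_of_closure (by
      rintro s (rfl | rfl | rfl) t (rfl | rfl | rfl)
      exacts [Commute.refl _, hvz, hvx, hvz.symm, Commute.refl _, hzx, hvx.symm, hzx.symm,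
        Commute.refl _])
  -- the action of `v` on `E`
  have hzQ : z ∈ Q := hEQ (Subgroup.mem_sup_left (Subgroup.mem_zpowers z))
  have hxQ : x ∈ Q := hEQ (Subgroup.mem_sup_right (Subgroup.mem_zpowers x))
  have hQC : Q ≤ C := Subgroup.map_subtype_le K
  set N := Subgroup.zpowers (⟨x, hxQ⟩ : Q)
  haveI : N.Normal := ⟨fun n hn q => by
    have hc : Commute q (⟨x, hxQ⟩ : Q) :=
      Subtype.ext (Subgroup.mem_centralizer_singleton_iff.1 (hQC q.2))
    obtain ⟨i, rfl⟩ := Subgroup.mem_zpowers_iff.1 hn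
    rw [(hc.zpow_right i).eq, mul_inv_cancel_right]
    exact hn⟩
  have hQN : Nat.card (Q ⧸ N) = p ^ 2 := by
    have h1 := N.card_mul_index
    rw [hQc, Nat.card_zpowers, Subgroup.orderOf_mk, ho x hx hx1, pow_succ'] at h1
    exact Nat.eq_of_mul_eq_mul_left hp.out.pos h1
  have hmem : (⟨v, hv⟩ : Q) * ⟨z, hzQ⟩ * (⟨v, hv⟩ : Q)⁻¹ * (⟨z, hzQ⟩ : Q)⁻¹ ∈ N := by
    rw [← QuotientGroup.eq_one_iff, QuotientGroup.mk_mul, QuotientGroup.mk_mul,
      QuotientGroup.mk_mul, QuotientGroup.mk_inv, QuotientGroup.mk_inv,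
      IsPGroup.commutative_of_card_eq_prime_sq hQN (QuotientGroup.mk (⟨v, hv⟩ : Q))]
    group
  obtain ⟨d, hd⟩ := Subgroup.mem_zpowers_iff.1 hmem
  have hd' : v * z * v⁻¹ = x ^ d * z := by
    have := congrArg Subtype.val hd
    push_cast at this
    rw [this]; group
  have hd0 : (d : ZMod p) ≠ 0 := fun e => hQnc (by
    rw [ZMod.intCast_zmod_eq_zero_iff_dvd] at e
    have hx0 : x ^ d = 1 := by
      rwa [← orderOf_dvd_iff_zpow_eq_one, ho x hx hx1]
    rw [hx0, one_mul] at hd'
    exact mul_inv_eq_iff_eq_mul.1 hd')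
  set m := (-(d : ZMod p)⁻¹).val
  have hpow : ∀ k : ℕ, v ^ k * z * (v ^ k)⁻¹ = x ^ (d * k) * z := by
    intro k
    induction k with
    | zero => simp
    | succ k ih =>
      calc v ^ (k + 1) * z * (v ^ (k + 1))⁻¹ = v * (v ^ k * z * (v ^ k)⁻¹) * v⁻¹ := by
            rw [pow_succ']; group
        _ = v * x ^ (d * k) * z * v⁻¹ := by rw [ih]; group
        _ = x ^ (d * k) * v * z * v⁻¹ := by rw [(hvx.zpow_right (d * k)).eq]
        _ = x ^ (d * k) * (v * z * v⁻¹) := by group
        _ = _ := by rw [hd', ← mul_assoc, ← zpow_add, Nat.cast_succ, mul_add, mul_one]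
  have hm : x ^ (d * (m : ℤ)) = x⁻¹ := by
    rw [← zpow_neg_one, ← orderOf_dvd_sub_iff_zpow_eq_zpow, ho x hx hx1,
      ← ZMod.intCast_zmod_eq_zero_iff_dvd]
    push_cast
    rw [ZMod.natCast_zmod_val, mul_neg, mul_inv_cancel₀ hd0]
    ring
  refine ⟨x, z, u, v ^ m, hx, hzP, hu, hzc, hz1, hx1, ?_, huz, huxu, hvx.pow_left m, ?_⟩
  · rw [← pow_mul, mul_comm, pow_mul, hQexp v hv, one_pow]
  · rw [hpow m, hm]

end CfsgLib.PConjugate
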