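import Cfsg.Agent.S0205
import Cfsg.Agent.Lib.PConjugate.Basic
import Cfsg.Agent.Lib.Involutions.BrauerSuzuki
import Cfsg.Agent.Lib.Hall.Existence
import Cfsg.Prelude.Def_Transfer
import Mathlib.GroupTheory.SpecificGroups.Quaternion
import Mathlib.GroupTheory.Transfer

/-!
Sylow subgroups when `p`-subgroups of equal order are conjugate.
-/

set_option autoImplicit false

namespace CfsgLib.PConjugate

open Cfsg

variable {G : Type*} [Group G] [Finite G]

theorem isElementaryAbelian_two {P : Subgroup G} (h : ∀ x ∈ P, x ^ 2 = 1) :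
    IsElementaryAbelian 2 P := by
  refine ⟨⟨⟨fun a b => Subtype.ext ?_⟩⟩, h⟩
  have hi : ∀ x ∈ P, x⁻¹ = x := fun x hx => inv_eq_of_mul_eq_one_right (pow_two x ▸ h x hx)
  have h1 := hi _ (mul_mem a.2 b.2)
  rw [mul_inv_rev, hi _ a.2, hi _ b.2] at h1
  exact h1.symm

/-- The Sylow `2`-subgroups. -/
theorem two_shape (hD : ConjEq 2 G) (S : Sylow 2 G) :
    IsCyclic S ∨ IsElementaryAbelian 2 (S : Subgroup G) ∨
      Nonempty ((S : Subgroup G) ≃* QuaternionGroup 2) := by
  haveI : Fact (Nat.Prime 2) := ⟨Nat.prime_two⟩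
  by_cases hu : TwoGroups.UniqueOrderP 2 (S : Subgroup G)
  swap
  · exact Or.inr (Or.inl (isElementaryAbelian_two (pow_eq_one hD S.2 hu)))
  rcases TwoGroups.isCyclic_or_quaternion S.2 hu with h | ⟨-, m, hm, ⟨e⟩⟩
  · exact Or.inl h
  rcases eq_or_lt_of_le hm with rfl | hm2
  · exact Or.inr (Or.inr ⟨e⟩)
  exfalso
  set P := (S : Subgroup G)
  haveI : NeZero (2 ^ m) := ⟨by positivity⟩
  set a : P := e.symm (QuaternionGroup.a 1)
  set y : P := e.symm (QuaternionGroup.xa 0)
  have ha : orderOf a = 2 ^ (m + 1) := by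
    rw [MulEquiv.orderOf_eq, QuaternionGroup.orderOf_a_one]; ring
  have hy : orderOf y = 4 := by rw [MulEquiv.orderOf_eq, QuaternionGroup.orderOf_xa]
  have hP : Nat.card P = 2 ^ (m + 2) := by
    rw [Nat.card_congr e.toEquiv, Nat.card_eq_fintype_card, QuaternionGroup.card]; ring
  have h8 : (8 : ℕ) ≤ 2 ^ (m + 1) :=
    le_trans (by norm_num) (Nat.pow_le_pow_right (by norm_num) (show 3 ≤ m + 1 by omega))
  obtain ⟨M, hM, hyM⟩ := Sylow.exists_subgroup_card_pow_prime_le 2 (n := 2) (m := m + 1)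
    (hP ▸ pow_dvd_pow 2 (by omega)) (Subgroup.zpowers y) (by rw [Nat.card_zpowers, hy]; norm_num)
    (by omega)
  have hMm : Nat.card (M.map P.subtype) = 2 ^ (m + 1) := by
    rw [Subgroup.card_map_of_injective P.subtype_injective, hM]
  obtain ⟨i⟩ := hD.iso (H := Subgroup.zpowers (a : G)) (K := M.map P.subtype)
    (isPGroup_of_card (n := m + 1) (by rw [Nat.card_zpowers, Subgroup.orderOf_coe, ha]))
    (isPGroup_of_card hMm) (by rw [Nat.card_zpowers, Subgroup.orderOf_coe, ha, hMm])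
  set g : (M.map P.subtype) := i ⟨a, Subgroup.mem_zpowers _⟩
  have hgo : orderOf (g : G) = 2 ^ (m + 1) := by
    rw [Subgroup.orderOf_coe, MulEquiv.orderOf_eq, Subgroup.orderOf_mk, Subgroup.orderOf_coe, ha]
  obtain ⟨g', hg'M, hgg⟩ := g.2
  have hg'o : orderOf g' = 2 ^ (m + 1) := by
    rw [← Subgroup.orderOf_coe]; exact (congrArg orderOf hgg).trans hgo
  have hMeq : Subgroup.zpowers g' = M :=
    Subgroup.eq_of_le_of_card_ge (Subgroup.zpowers_le.2 hg'M) (by rw [hM, Nat.card_zpowers, hg'o])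
  rw [← hMeq] at hyM
  obtain ⟨j, hj⟩ := Subgroup.mem_zpowers_iff.1 (hyM (Subgroup.mem_zpowers y))
  have hq : ∃ k, e g' = QuaternionGroup.a k := by
    cases hc : e g' with
    | a k => exact ⟨k, rfl⟩
    | xa k =>
      exfalso
      have h4 := QuaternionGroup.orderOf_xa (n := 2 ^ m) k
      rw [← hc, MulEquiv.orderOf_eq, hg'o] at h4
      omega
  obtain ⟨k, hk⟩ := hq
  have hj' := congrArg e hj
  rw [map_zpow, hk, MulEquiv.apply_symm_apply] at hj'
  have hmem : ∀ n : ℕ, ∃ l, (QuaternionGroup.a k : QuaternionGroup (2 ^ m)) ^ n = QuaternionGroup.a l := by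
    intro n
    induction n with
    | zero => exact ⟨0, rfl⟩
    | succ n ih =>
      obtain ⟨l, hl⟩ := ih
      exact ⟨l + k, by rw [pow_succ, hl]; rfl⟩
  obtain ⟨n, hn⟩ := (isOfFinOrder_of_finite
    (QuaternionGroup.a k : QuaternionGroup (2 ^ m))).mem_powers_iff_mem_zpowers.2
    (Subgroup.mem_zpowers_iff.2 ⟨j, rfl⟩)
  obtain ⟨l, hl⟩ := hmem n
  simp only [hl, hj'] at hn
  cases hn

theorem eq_one_of_eq_inv {p : ℕ} [hp : Fact p.Prime] (hp2 : p ≠ 2) {z : G} (hz : z ^ p = 1)
    (h : z = z⁻¹) : z = 1 := by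
  have h2 : z ^ 2 = 1 := by rw [pow_two]; nth_rw 2 [h]; rw [mul_inv_cancel]
  have hd := Nat.dvd_gcd (orderOf_dvd_of_pow_eq_one hz) (orderOf_dvd_of_pow_eq_one h2)
  rw [Nat.Coprime.gcd_eq_one ((Nat.coprime_primes hp.out Nat.prime_two).2 hp2), Nat.dvd_one,
    orderOf_eq_one_iff] at hd
  exact hd

theorem exists_mem_oddCore (hD2 : ConjEq 2 G) {p : ℕ} [hp : Fact p.Prime] (hp2 : p ≠ 2)
    {x z u v : G} (hzp : z ^ p = 1) (hxp : x ^ p = 1) (hup : u ^ p = 1) (hvp : v ^ p = 1)
    (hz1 : z ≠ 1) (hzx : Commute z x) (huz : Commute u z) (hux : u * x * u⁻¹ = z * x) (hvx : Commute v x)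
    (hvz : v * z * v⁻¹ = x⁻¹ * z) : x ∈ oddCore G := by
  haveI : Fact (Nat.Prime 2) := ⟨Nat.prime_two⟩
  set f : G → G → G := fun w y => w * y * w⁻¹
  have hmul : ∀ a b y : G, f (a * b) y = f a (f b y) := fun a b y => by simp only [f]; group
  have hfinv : ∀ w y : G, f w y⁻¹ = (f w y)⁻¹ := fun w y => by simp only [f]; group
  have huz' : f u z = z := by simp only [f]; rw [huz.eq, mul_inv_cancel_right]
  have hvx' : f v x = x := by simp only [f]; rw [hvx.eq, mul_inv_cancel_right]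
  have huprod : ∀ a b : G, f u (a * b) = f u a * f u b := fun a b => by simp only [f]; group
  have hvprod : ∀ a b : G, f v (a * b) = f v a * f v b := fun a b => by simp only [f]; group
  set w := u * v * u
  have hwz : f w z = x⁻¹ := by
    rw [hmul, huz', hmul, show f v z = x⁻¹ * z from hvz, huprod, hfinv, show f u x = z * x from hux,
      huz']
    group
  have hwx : f w x = z := by
    rw [hmul, show f u x = z * x from hux, hmul, hvprod, show f v z = x⁻¹ * z from hvz, hvx',
      huprod, huprod, hfinv, show f u x = z * x from hux, huz']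
    simp only [mul_inv_rev, mul_assoc, inv_mul_cancel_left]
    rw [hzx.eq, inv_mul_cancel_left]
  have hw2 : f (w * w) z = z⁻¹ ∧ f (w * w) x = x⁻¹ := by
    constructor
    · rw [hmul, hwz, hfinv, hwx]
    · rw [hmul, hwx, hwz]
  obtain ⟨k, o, ho, hko⟩ := Nat.exists_eq_two_pow_mul_odd (orderOf_pos w).ne'
  have hodd : ∀ j : ℕ, Odd j → ∀ y, f (w * w) y = y⁻¹ → f ((w * w) ^ j) y = y⁻¹ := by
    rintro _ ⟨i, rfl⟩ y hy
    induction i with
    | zero => rwa [mul_zero, zero_add, pow_one]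
    | succ i ih =>
      rw [show 2 * (i + 1) + 1 = 2 * i + 1 + 1 + 1 by ring, pow_succ', pow_succ', hmul (w * w), hmul (w * w), ih,
        hfinv, hy, inv_inv, hy]
  set g := w ^ o with hg
  have hgg : g ^ 2 = (w * w) ^ o := by
    rw [hg, ← pow_two, ← pow_mul, ← pow_mul, mul_comm]
  have hg2z : f (g ^ 2) z = z⁻¹ := hgg ▸ hodd o ho z hw2.1
  have hg2x : f (g ^ 2) x = x⁻¹ := hgg ▸ hodd o ho x hw2.2
  have hgne : g ^ 2 ≠ 1 := fun e => hz1 (eq_one_of_eq_inv hp2 hzp (by
    rw [e] at hg2z; simpa [f] using hg2z))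
  have hgo : orderOf g = 2 ^ k := by
    rw [hg, orderOf_pow, hko, Nat.gcd_eq_right (dvd_mul_left _ _), Nat.mul_div_cancel _ ho.pos]
  obtain ⟨S, hS⟩ := (IsPGroup.of_card (p := 2) (n := k)
    (show Nat.card (Subgroup.zpowers g) = 2 ^ k by rw [Nat.card_zpowers, hgo])).exists_le_sylow
  have hgS : g ∈ (S : Subgroup G) := hS (Subgroup.mem_zpowers g)
  rcases two_shape hD2 S with hc | he | ⟨⟨e⟩⟩
  · exfalso
    have hk : 0 < k := by
      rcases Nat.eq_zero_or_pos k with rfl | h
      · rw [pow_zero, orderOf_eq_one_iff] at hgo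
        exact absurd (by rw [hgo, one_pow]) hgne
      · exact h
    have hev : 2 ∣ Nat.card G := (dvd_mul_of_dvd_left (dvd_pow_self 2 hk.ne') o).trans
      (hko ▸ orderOf_dvd_natCard w)
    have hmin : (Nat.card G).minFac = 2 := by
      rw [Nat.minFac_eq_two_iff]; exact hev
    set K := (MonoidHom.transferSylow S (hc.normalizer_le_centralizer hmin)).ker
    have hcomp : K.IsComplement' (S : Subgroup G) := IsCyclic.isComplement' hmin hc
    have hKodd : ¬ 2 ∣ Nat.card K := fun hd => S.not_dvd_index (hcomp.index_eq_card ▸ hd)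
    have hin : ∀ y : G, y ^ p = 1 → y ∈ K := by
      intro y hy
      rw [← QuotientGroup.eq_one_iff, ← orderOf_eq_one_iff]
      have h1 : orderOf (y : G ⧸ K) ∣ p :=
        (orderOf_map_dvd (QuotientGroup.mk' K) y).trans (orderOf_dvd_of_pow_eq_one hy)
      have h2 : orderOf (y : G ⧸ K) ∣ Nat.card (S : Subgroup G) := by
        rw [← hcomp.symm.index_eq_card]; exact orderOf_dvd_natCard _
      obtain ⟨n, hn⟩ := IsPGroup.iff_card.1 S.2
      rw [hn] at h2
      exact Nat.dvd_one.1 ((((Nat.coprime_primes hp.out Nat.prime_two).2 hp2).pow_right n).gcd_eq_one ▸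
        Nat.dvd_gcd h1 h2)
    have hwK : w ∈ K := mul_mem (mul_mem (hin u hup) (hin v hvp)) (hin u hup)
    exact hKodd (((dvd_mul_of_dvd_left (dvd_pow_self 2 hk.ne') o).trans (dvd_of_eq hko.symm)).trans
      ((Subgroup.orderOf_mk w hwK).symm ▸ orderOf_dvd_natCard _))
  · exact absurd (he.2 g hgS) hgne
  · haveI : NeZero (2 : ℕ) := ⟨by norm_num⟩
    have hg4 : g ^ 4 = 1 := by
      have h4 : ∀ q : QuaternionGroup 2, q ^ 4 = 1 := by decide
      have := h4 (e ⟨g, hgS⟩)
      rw [← map_pow, map_eq_one_iff e e.injective] at this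
      exact congrArg Subtype.val this
    set t := g ^ 2
    have ht : orderOf t = 2 := orderOf_eq_prime (by rw [← pow_mul]; exact hg4) hgne
    have htS : t ∈ (S : Subgroup G) := pow_mem hgS 2
    have hO := Involutions.zstar_isolated S ht (fun y hy =>
      Involutions.unique_involution_of_quaternion S e hy htS ((Involutions.orderOf_conj y t).trans ht) ht) x
    rw [show t * x * t⁻¹ = x⁻¹ from hg2x] at hO
    have hx2 : x ^ 2 ∈ oddCore G := by
      have := inv_mem hO
      rwa [mul_inv_rev, inv_inv, ← pow_two] at this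
    obtain ⟨j, hj⟩ := (hp.out.eq_two_or_odd').resolve_left hp2
    have hxe : x = (x ^ 2) ^ (j + 1) := by
      rw [← pow_mul, show 2 * (j + 1) = 2 * j + 1 + 1 by ring, pow_succ, ← hj, hxp, one_mul]
    rw [hxe]; exact pow_mem hx2 _

/-- An odd prime: the Sylow subgroup is cyclic or elementary abelian. -/
theorem odd_shape (hD2 : ConjEq 2 G) {p : ℕ} [hp : Fact p.Prime] (hp2 : p ≠ 2) (hD : ConjEq p G)
    (P : Sylow p G) : IsCyclic P ∨ IsElementaryAbelian p (P : Subgroup G) := by
  by_cases hu : TwoGroups.UniqueOrderP p (P : Subgroup G)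
  · rcases TwoGroups.isCyclic_or_quaternion P.2 hu with h | ⟨h, -⟩
    · exact Or.inl h
    · exact absurd h hp2
  right
  have hexp := pow_eq_one hD P.2 hu
  refine ⟨?_, hexp⟩
  by_contra hncomm
  obtain ⟨x, z, u, v, hx, hz, huP, hzc, hz1, hx1, hvp, huz, hux, hvx, hvz⟩ :=
    exists_transvections hD P.2 hexp
      (fun h => hncomm ⟨⟨fun a b => Subtype.ext (h a a.2 b b.2).eq⟩⟩)
  have hxO : x ∈ oddCore G :=
    exists_mem_oddCore hD2 hp2 (hexp z hz) (hexp x hx) (hexp u huP) hvp hz1 (hzc x hx) huz hux hvx hvz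
  haveI : Group.IsSolvable (oddCore G) := Cfsg.Agent.S0205.result (Cores.odd_card_oddCore (G := G))
  set K := pPrimeCore p G
  set π := QuotientGroup.mk' K with hπ
  have hπs : Function.Surjective π := QuotientGroup.mk'_surjective K
  set O' := (oddCore G).map π
  haveI : O'.Normal := Subgroup.Normal.map inferInstance π hπs
  haveI : Group.IsSolvable O' :=
    solvable_of_surjective (π.subgroupMap_surjective (oddCore G))
  have hPK : ∀ y ∈ (P : Subgroup G), π y = 1 → y = 1 := by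
    intro y hy hy1
    rw [hπ, QuotientGroup.mk'_apply, QuotientGroup.eq_one_iff] at hy1
    obtain ⟨n, hn⟩ := IsPGroup.iff_card.1 P.2
    have h1 : orderOf y ∣ Nat.card (P : Subgroup G) :=
      Subgroup.orderOf_dvd_natCard _ hy
    have h2 : orderOf y ∣ Nat.card K := Subgroup.orderOf_dvd_natCard _ hy1
    rw [← orderOf_eq_one_iff]
    exact Nat.dvd_one.1 (((Cores.card_pPrimeCore_coprime (G := G) p).symm.pow_left n).gcd_eq_one ▸
      Nat.dvd_gcd (hn ▸ h1) h2)
  haveI : Nontrivial O' := nontrivial_of_ne ⟨π x, ⟨x, hxO, rfl⟩⟩ 1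
    (fun e => hx1 (hPK x hx (congrArg Subtype.val e)))
  obtain ⟨q, hq, hqne⟩ := Hall.exists_pCore_ne_bot (G := O')
  have hqp : q = p := by
    by_contra hne
    apply hqne
    haveI := Fact.mk hq
    have hle : (pCore q O').map O'.subtype ≤ pCore q (G ⧸ K) :=
      Cores.map_subtype_pCore_le (Subgroup.Normal.isSubnormal inferInstance)
    have hbot : pCore q (G ⧸ K) = ⊥ := by
      refine le_bot_iff.1 (le_of_le_of_eq (Cores.le_pPrimeCore_of_not_dvd hp.out ?_)
        (Cores.pPrimeCore_quotient_pPrimeCore (G := G) p))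
      intro hd
      obtain ⟨n, hn⟩ := IsPGroup.iff_card.1 (Cores.isPGroup_pCore q (G ⧸ K))
      exact hne ((Nat.prime_dvd_prime_iff_eq hp.out hq).1 (hp.out.dvd_of_dvd_pow (hn ▸ hd))).symm
    rw [hbot, le_bot_iff, Subgroup.map_eq_bot_iff_of_injective _ O'.subtype_injective] at hle
    exact hle
  subst hqp
  set R := pCore q (G ⧸ K) with hR
  have hRne : R ≠ ⊥ := fun e => hqne (by
    have hle : (pCore q O').map O'.subtype ≤ R :=
      Cores.map_subtype_pCore_le (Subgroup.Normal.isSubnormal inferInstance)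
    rw [e, le_bot_iff, Subgroup.map_eq_bot_iff_of_injective _ O'.subtype_injective] at hle
    exact hle)
  -- a `p`-element of the preimage
  haveI : Nontrivial R := (Subgroup.nontrivial_iff_ne_bot R).2 hRne
  have hdvd : q ∣ Nat.card (R.comap π) := by
    have h1 : q ∣ Nat.card R := by
      obtain ⟨n, hn⟩ := IsPGroup.iff_card.1 (Cores.isPGroup_pCore q (G ⧸ K))
      rcases n with _ | n
      · have := Finite.one_lt_card (α := R)
        rw [hR] at this; simp [hn] at this
      · rw [hR, hn]; exact dvd_pow_self q n.succ_ne_zero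
    refine h1.trans ?_
    conv_lhs => rw [← Subgroup.map_comap_eq_self_of_surjective hπs R]
    exact Subgroup.card_map_dvd _ _
  obtain ⟨⟨y, hy⟩, hyo⟩ := exists_prime_orderOf_dvd_card' (G := R.comap π) q hdvd
  rw [Subgroup.orderOf_mk] at hyo
  have hPR : (P : Subgroup G) ≤ R.comap π := by
    intro a ha
    rcases eq_or_ne a 1 with rfl | ha1
    · exact one_mem _
    have hao := orderOf_eq_prime (hexp a ha) ha1
    obtain ⟨g, hg⟩ := hD (Subgroup.zpowers y) (Subgroup.zpowers a)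
      (isPGroup_of_card (n := 1) (by rw [Nat.card_zpowers, hyo, pow_one]))
      (isPGroup_of_card (n := 1) (by rw [Nat.card_zpowers, hao, pow_one]))
      (by rw [Nat.card_zpowers, Nat.card_zpowers, hyo, hao])
    have hm : a ∈ (Subgroup.zpowers y).map (MulAut.conj g).toMonoidHom :=
      hg ▸ Subgroup.mem_zpowers a
    obtain ⟨b, hb, rfl⟩ := hm
    exact (inferInstance : (R.comap π).Normal).conj_mem b (Subgroup.zpowers_le.2 hy hb) g
  have hRP : R = (P : Subgroup G).map π := by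
    have h := (P.mapSurjective hπs).3 (Cores.isPGroup_pCore q (G ⧸ K))
      (Subgroup.map_le_iff_le_comap.2 hPR)
    exact h
  obtain ⟨g, hg⟩ := hD (Subgroup.zpowers x) (Subgroup.zpowers z)
    (isPGroup_of_card (n := 1) (by rw [Nat.card_zpowers, orderOf_eq_prime (hexp x hx) hx1, pow_one]))
    (isPGroup_of_card (n := 1) (by rw [Nat.card_zpowers, orderOf_eq_prime (hexp z hz) hz1, pow_one]))
    (by rw [Nat.card_zpowers, Nat.card_zpowers, orderOf_eq_prime (hexp x hx) hx1,
      orderOf_eq_prime (hexp z hz) hz1])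
  obtain ⟨i, hi⟩ := Subgroup.mem_zpowers_iff.1
    (hg ▸ ⟨x, Subgroup.mem_zpowers x, rfl⟩ : g * x * g⁻¹ ∈ Subgroup.zpowers z)
  have hcomm : ∀ r ∈ R, Commute (π (g * x * g⁻¹)) r := by
    intro r hr
    rw [hRP] at hr
    obtain ⟨b, hb, rfl⟩ := hr
    exact (hi ▸ (hzc b hb).zpow_left i : Commute (g * x * g⁻¹) b).map π
  have huR : π g * π u * (π g)⁻¹ ∈ R := by
    refine (inferInstance : R.Normal).conj_mem _ ?_ _
    rw [hRP]; exact ⟨u, huP, rfl⟩
  have hc := hcomm _ huR
  rw [map_mul, map_mul, map_inv] at hc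
  have hxu : Commute (π x) (π u) := by
    have := hc.eq
    have h2 : π g * (π x * π u) * (π g)⁻¹ = π g * (π u * π x) * (π g)⁻¹ := by
      calc π g * (π x * π u) * (π g)⁻¹ = π g * π x * (π g)⁻¹ * (π g * π u * (π g)⁻¹) := by group
        _ = π g * π u * (π g)⁻¹ * (π g * π x * (π g)⁻¹) := this
        _ = _ := by group
    exact mul_left_cancel (mul_right_cancel h2)
  apply hz1
  refine hPK z hz ?_
  have h3 : π (u * x * u⁻¹) = π (z * x) := by rw [hux]
  rw [map_mul, map_mul, map_mul, map_inv, hxu.symm.eq, mul_inv_cancel_right] at h3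
  exact (mul_eq_right.1 h3.symm)

end CfsgLib.PConjugate
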